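import Mathlib
import Groth.Prelude.Def_CxOX
import Groth.Prelude.Def_FlatMod2
import Groth.Agent.Lib.Lead.EZ.FreeOn
import Groth.Agent.Lib.Lead.EZ.ProjStmts
import Groth.Agent.Lib.Lead.MS.Flat3
import Groth.Agent.Lib.Lead.Inj.SigmaInj
import Groth.Agent.H4.SFlat6

/-!
# Every `O_X`-module is a quotient of a flat direct sum of modules `j_! O_U` (S11164)
-/

set_option autoImplicit false
universe u
open CategoryTheory CategoryTheory.Limits AlgebraicGeometry TopologicalSpace Opposite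

namespace Groth.Agent.LD.FQ

variable {X : Scheme.{u}} (V : X.Opens)

/-- `Hom(j_! O_V, M) ≃ M(V)` -/
noncomputable def ezEquiv (M : X.Modules) : (CxOX.extZeroUnit V.ι ⟶ M) ≃ M.val.obj (op V) :=
  ((CxOX.extZeroAdj V.ι).homEquiv (Coh.structureModule V) M).trans
    ((SheafOfModules.unitHomEquiv ((Scheme.Modules.restrictFunctor V.ι).obj M)).trans
      ((EZ.sectionsEquivTerminal ((Scheme.Modules.restrictFunctor V.ι).obj M) (T := ⊤)
          isTerminalTop).trans
        (Equiv.cast (congrArg (fun Z => (M.val.obj (op Z) : Type u)) V.ι_image_top))))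

lemma ezEquiv_apply (M : X.Modules) (ψ : CxOX.extZeroUnit V.ι ⟶ M) :
    ezEquiv V M ψ = cast (congrArg (fun Z => (M.val.obj (op Z) : Type u)) V.ι_image_top)
      ((SheafOfModules.unitHomEquiv ((Scheme.Modules.restrictFunctor V.ι).obj M)
        ((CxOX.extZeroAdj V.ι).homEquiv (Coh.structureModule V) M ψ)).val (op ⊤)) := rfl

lemma app_cast {M M' : X.Modules} (g : M ⟶ M') {W W' : X.Opens} (h : W = W')
    (y : M.val.obj (op W)) :
    g.val.app (op W') (cast (congrArg (fun Z => (M.val.obj (op Z) : Type u)) h) y) =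
      cast (congrArg (fun Z => (M'.val.obj (op Z) : Type u)) h) (g.val.app (op W) y) := by
  subst h
  rfl

lemma ezEquiv_comp {M M' : X.Modules} (ψ : CxOX.extZeroUnit V.ι ⟶ M) (g : M ⟶ M') :
    ezEquiv V M' (ψ ≫ g) = g.val.app (op V) (ezEquiv V M ψ) := by
  rw [ezEquiv_apply, ezEquiv_apply, Adjunction.homEquiv_naturality_right]
  have e1 := SheafOfModules.unitHomEquiv_comp_apply
    ((CxOX.extZeroAdj V.ι).homEquiv (Coh.structureModule V) M ψ)
    ((Scheme.Modules.restrictFunctor V.ι).map g)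
  have e2 := congrArg (fun s => s.val (op ⊤)) e1
  exact Eq.trans
    (congrArg (cast (congrArg (fun Z => (M'.val.obj (op Z) : Type u)) V.ι_image_top)) e2)
    (app_cast g V.ι_image_top _).symm

/-- `j_! O_V` is the free module on `V`. -/
noncomputable def ezIsoFreeOn : CxOX.extZeroUnit V.ι ≅ ModSite.freeOn X.sheaf V :=
  EZ.isoOfHomEquiv (A := X.Modules) _ _ (fun M : X.Modules => M.val.obj (op V))
    (ezEquiv V) (EZ.freeOnEquiv X.sheaf V)
    (fun g x => g.val.app (op V) x)
    (fun ψ g => ezEquiv_comp V ψ g)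
    (fun ψ g => EZ.freeOnEquiv_comp X.sheaf V ψ g)

lemma isFlat_of_iso {F F' : X.Modules} (e : F ≅ F') (h : ModSite.IsFlat (O := X.sheaf) F) :
    ModSite.IsFlat (O := X.sheaf) F' := by
  obtain ⟨h1, h2⟩ := h
  have i := (ModSite.tensorBi X.sheaf).flip.mapIso e
  exact ⟨preservesFiniteLimits_of_natIso i, preservesFiniteColimits_of_natIso i⟩

lemma isFlat_extZeroUnit : ModSite.IsFlat (O := X.sheaf) (CxOX.extZeroUnit V.ι) :=
  isFlat_of_iso (ezIsoFreeOn V).symm (EZ.isFlat_extZero_and_freeOn X.sheaf V).2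

/-- **S11164**. -/
theorem exists_flat_epi (F : X.Modules) :
    ∃ (ι : Type u) (U : ι → X.Opens) (p : (∐ fun i => CxOX.extZeroUnit (U i).ι) ⟶ F),
      Epi p ∧ FlatMod.IsFlat (∐ fun i => CxOX.extZeroUnit (U i).ι) := by
  let ι : Type u := Σ W : X.affineOpens, (SigmaInj.gen W ⟶ F)
  let U : ι → X.Opens := fun i => i.1.1
  let p : (∐ fun i => CxOX.extZeroUnit (U i).ι) ⟶ F := Sigma.desc (fun i => i.2)
  refine ⟨ι, U, p, ?_, ?_⟩
  · -- epi
    haveI : IsIso (Abelian.image.ι p) := by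
      apply SigmaInj.isIso_of_lifts
      intro W f
      refine ⟨Sigma.ι (fun i : ι => CxOX.extZeroUnit (U i).ι) ⟨W, f⟩ ≫ Abelian.factorThruImage p, ?_⟩
      rw [Category.assoc, Abelian.image.fac]
      exact Sigma.ι_desc (fun i : ι => i.2) ⟨W, f⟩
    rw [← Abelian.image.fac p]
    infer_instance
  · -- flat
    apply Groth.Agent.H4.SFlat6.isFlat_stalkwise_of_isFlat
    exact MS.isFlat_cofan (O := X.sheaf) (fun i : ι => CxOX.extZeroUnit (U i).ι)
      (fun i => isFlat_extZeroUnit (U i))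
      (Cofan.mk (∐ fun i : ι => CxOX.extZeroUnit (U i).ι) (Sigma.ι _))
      (coproductIsCoproduct _)

end Groth.Agent.LD.FQ
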